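/-
Maps between subgroups of a product of two commuting strongly closed subgroups extend to the
products of their projections.
-/
import Cfsg.Agent.Lib.Fusion.Alperin
import Cfsg.Agent.Lib.Fusion.Component.Generate
import Cfsg.Agent.Lib.Fusion.ModT
import Cfsg.Agent.Lib.Fusion.Quotient

set_option autoImplicit false

namespace Cfsg.Agent.Lib.Fusion.NormalProduct

open Cfsg Cfsg.FusionSystem
open scoped Pointwise

universe u

variable {Ω : Type u} [Group Ω] {S T₁ T₂ : Subgroup Ω} {F : FusionSystem S} {p : ℕ}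

/-- The two projections of the part of `P` inside `T₁T₂`. -/
def projections (T₁ T₂ P : Subgroup Ω) : Subgroup Ω :=
  T₁ ⊓ (P ⊓ (T₁ ⊔ T₂) ⊔ T₂) ⊔ T₂ ⊓ (P ⊓ (T₁ ⊔ T₂) ⊔ T₁)

theorem projections_swap (P : Subgroup Ω) : projections T₂ T₁ P = projections T₁ T₂ P := by
  rw [projections, projections, sup_comm T₂ T₁, sup_comm]

theorem projections_le (P : Subgroup Ω) : projections T₁ T₂ P ≤ T₁ ⊔ T₂ :=
  sup_le (inf_le_left.trans le_sup_left) (inf_le_left.trans le_sup_right)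

/-- An automorphism congruent to conjugations modulo both factors and fixing their intersection is
a `p`-element. -/
theorem pow_eq_one_of_congruent [Fact p.Prime] [Finite S] (hS : IsPGroup p S) {X : Subgroup Ω}
    (hXS : X ≤ S) {g : MulAut X} {K A : Subgroup Ω}
    (hd : ∀ x : X, (x : Ω)⁻¹ * (g x : Ω) ∈ K) {a₁ a₂ : Ω} (ha₁S : a₁ ∈ S) (ha₂S : a₂ ∈ S)
    {N₁ N₂ : Subgroup Ω} (hA : N₁ ⊓ N₂ = A)
    (hg₁ : ∀ x : X, (x : Ω) ∈ K → (a₁ * x * a₁⁻¹)⁻¹ * (g x : Ω) ∈ N₂)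
    (hg₂ : ∀ x : X, (x : Ω) ∈ K → (a₂ * x * a₂⁻¹)⁻¹ * (g x : Ω) ∈ N₁)
    (hn₁ : ∀ y ∈ N₂, a₁ * y * a₁⁻¹ ∈ N₂) (hn₂ : ∀ y ∈ N₁, a₂ * y * a₂⁻¹ ∈ N₁)
    (hgK : ∀ x : X, (x : Ω) ∈ K → (g x : Ω) ∈ K)
    (hfix : ∀ x : X, (x : Ω) ∈ K → (x : Ω) ∈ A → g x = x) : ∃ k : ℕ, g ^ p ^ k = 1 := by
  have hiter : ∀ (i : ℕ) (x : X), (x : Ω) ∈ K → ((g ^ i) x : Ω) ∈ K ∧
      (a₁ ^ i * x * (a₁ ^ i)⁻¹)⁻¹ * ((g ^ i) x : Ω) ∈ N₂ ∧
      (a₂ ^ i * x * (a₂ ^ i)⁻¹)⁻¹ * ((g ^ i) x : Ω) ∈ N₁ := by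
    intro i
    induction i with
    | zero => intro x hx; simp [hx]
    | succ i ih =>
      intro x hx
      obtain ⟨hK, h₁, h₂⟩ := ih x hx
      refine ⟨by rw [pow_succ', MulAut.mul_apply]; exact hgK _ hK, ?_, ?_⟩
      · have h := N₂.mul_mem (hn₁ _ h₁) (hg₁ _ hK)
        rw [pow_succ', pow_succ', MulAut.mul_apply,
          show (a₁ * a₁ ^ i * (x : Ω) * (a₁ * a₁ ^ i)⁻¹)⁻¹ * (g ((g ^ i) x) : Ω) =
            a₁ * ((a₁ ^ i * x * (a₁ ^ i)⁻¹)⁻¹ * ((g ^ i) x : Ω)) * a₁⁻¹ *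
              ((a₁ * ((g ^ i) x : Ω) * a₁⁻¹)⁻¹ * (g ((g ^ i) x) : Ω)) by group]
        exact h
      · have h := N₁.mul_mem (hn₂ _ h₂) (hg₂ _ hK)
        rw [pow_succ', pow_succ', MulAut.mul_apply,
          show (a₂ * a₂ ^ i * (x : Ω) * (a₂ * a₂ ^ i)⁻¹)⁻¹ * (g ((g ^ i) x) : Ω) =
            a₂ * ((a₂ ^ i * x * (a₂ ^ i)⁻¹)⁻¹ * ((g ^ i) x : Ω)) * a₂⁻¹ *
              ((a₂ * ((g ^ i) x : Ω) * a₂⁻¹)⁻¹ * (g ((g ^ i) x) : Ω)) by group]
        exact h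
  obtain ⟨m, hm⟩ := IsPGroup.iff_card.1 hS
  have hpow : ∀ s ∈ S, s ^ p ^ m = 1 := fun s hs => by
    have h : (⟨s, hs⟩ : S) ^ p ^ m = 1 := by rw [← hm]; exact pow_card_eq_one'
    exact congrArg Subtype.val h
  -- `h := g ^ p ^ m` is trivial modulo `A` on `K`
  set h := g ^ p ^ m with hh
  have hdA : ∀ x : X, (x : Ω) ∈ K → (x : Ω)⁻¹ * (h x : Ω) ∈ A := by
    intro x hx
    obtain ⟨-, h₁, h₂⟩ := hiter (p ^ m) x hx
    rw [hpow a₁ ha₁S, one_mul, inv_one, mul_one] at h₁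
    rw [hpow a₂ ha₂S, one_mul, inv_one, mul_one] at h₂
    rw [← hA]
    exact ⟨h₂, h₁⟩
  have hfixh : ∀ (i : ℕ) (x : X), (x : Ω) ∈ K → (x : Ω) ∈ A → (g ^ i) x = x := by
    intro i x hx hxA
    induction i with
    | zero => rfl
    | succ i ih => rw [pow_succ', MulAut.mul_apply, ih, hfix x hx hxA]
  have hKfix : ∀ x : X, (x : Ω) ∈ K → (h ^ p ^ m) x = x := by
    intro x hx
    have hq : ((x⁻¹ * h x : X) : Ω) ∈ K :=
      K.mul_mem (K.inv_mem hx) (hiter _ x hx).1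
    have hqA : ((x⁻¹ * h x : X) : Ω) ∈ A := hdA x hx
    have hit : ∀ n : ℕ, (h ^ n) x = x * (x⁻¹ * h x) ^ n := by
      intro n
      induction n with
      | zero => simp
      | succ n ih =>
        rw [pow_succ' h, MulAut.mul_apply, ih, map_mul, map_pow, hfixh _ _ hq hqA, pow_succ' _ n,
          ← mul_assoc x, mul_inv_cancel_left]
    have hzero : (x⁻¹ * h x) ^ p ^ m = 1 := Subtype.ext (by
      rw [SubmonoidClass.coe_pow]
      exact hpow _ (hXS (x⁻¹ * h x).2))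
    rw [hit, hzero, mul_one]
  have hdK : ∀ (i : ℕ) (x : X), (x : Ω)⁻¹ * ((g ^ i) x : Ω) ∈ K := by
    intro i
    induction i with
    | zero => intro x; simp
    | succ i ih =>
      intro x
      have := K.mul_mem (ih x) (hd ((g ^ i) x))
      rw [mul_assoc, mul_inv_cancel_left] at this
      rwa [pow_succ', MulAut.mul_apply]
  have hgg : h ^ p ^ m = g ^ (p ^ m * p ^ m) := (pow_mul g _ _).symm
  obtain ⟨k, hk⟩ := Component.pow_eq_one_of_disp hS hXS (g := h ^ p ^ m) (D := K)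
    (fun x => by rw [hgg]; exact hdK _ x) hKfix
  exact ⟨m + m + k, by rw [pow_add, pow_add, pow_mul, ← hgg]; exact hk⟩

/-- A radical centric subgroup contains the projections of its part in `T₁T₂`. -/
theorem projection_le_of_radical [Fact p.Prime] [Finite S] (hS : IsPGroup p S)
    (hT₁ : F.StronglyClosed T₁) (hT₂ : F.StronglyClosed T₂)
    (hU : F.StronglyClosed (T₁ ⊔ T₂)) (hcomm : ∀ a ∈ T₁, ∀ b ∈ T₂, a * b = b * a)
    {X : Subgroup Ω} (hXc : F.IsCentric X) (hXr : F.IsRadical p X) :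
    T₁ ⊓ (X ⊓ (T₁ ⊔ T₂) ⊔ T₂) ≤ X := by
  classical
  have hXS : X ≤ S := hXc.1
  set K := X ⊓ (T₁ ⊔ T₂) with hK
  set Y := T₁ ⊓ (K ⊔ T₂) with hY
  haveI : Finite X := finite_of_le hXS
  haveI := finite_mulAut (S := S) hXS
  have hn : ∀ {T : Subgroup Ω}, F.StronglyClosed T → ∀ s ∈ S, ∀ t ∈ T, s * t * s⁻¹ ∈ T :=
    fun hT s hs t ht => hT.2 _ le_rfl _ (F.conj_mem hT.1 hs) ⟨t, ht⟩
  have hKS : K ≤ S := inf_le_left.trans hXS
  have hA : ∀ k ∈ T₁ ⊔ T₂, ∀ z ∈ T₁ ⊓ T₂, k * z = z * k := by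
    intro k hk z hz
    have hle : T₁ ⊔ T₂ ≤ Subgroup.centralizer {z} := sup_le
      (fun a ha => Subgroup.mem_centralizer_iff.2 (by
        intro u hu; rw [Set.mem_singleton_iff.1 hu]; exact (hcomm a ha z hz.2).symm))
      (fun b hb => Subgroup.mem_centralizer_iff.2 (by
        intro u hu; rw [Set.mem_singleton_iff.1 hu]; exact hcomm z hz.1 b hb))
    exact (Subgroup.mem_centralizer_iff.1 (hle hk) z rfl).symm
  -- automorphisms congruent to inner ones modulo both factors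
  let Kset : Submonoid (MulAut X) :=
    { carrier := {g | g ∈ F.autGroup X ∧ (∀ x : X, (x : Ω)⁻¹ * (g x : Ω) ∈ T₁ ⊔ T₂) ∧
        (∀ x : X, (x : Ω) ∈ T₁ ⊓ T₂ → g x = x) ∧
        (∃ a ∈ K, ∀ x : X, (x : Ω) ∈ T₁ ⊔ T₂ → (a * x * a⁻¹)⁻¹ * (g x : Ω) ∈ T₂) ∧
        ∃ a ∈ K, ∀ x : X, (x : Ω) ∈ T₁ ⊔ T₂ → (a * x * a⁻¹)⁻¹ * (g x : Ω) ∈ T₁}
      one_mem' := ⟨one_mem _, fun x => by simp, fun x _ => rfl,
        ⟨1, one_mem _, fun x _ => by simp⟩, ⟨1, one_mem _, fun x _ => by simp⟩⟩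
      mul_mem' := by
        rintro g h ⟨hgF, hgd, hgA, ⟨a, ha, hga⟩, b, hb, hgb⟩
          ⟨hhF, hhd, hhA, ⟨c, hc, hhc⟩, d, hd, hhd'⟩
        have hhU : ∀ x : X, (x : Ω) ∈ T₁ ⊔ T₂ → (h x : Ω) ∈ T₁ ⊔ T₂ := fun x hx => by
          have := (T₁ ⊔ T₂).mul_mem hx (hhd x)
          rwa [mul_inv_cancel_left] at this
        refine ⟨mul_mem hgF hhF, fun x => ?_, fun x hx => by rw [MulAut.mul_apply, hhA x hx, hgA x hx],
          ⟨a * c, K.mul_mem ha hc, fun x hx => ?_⟩, ⟨b * d, K.mul_mem hb hd, fun x hx => ?_⟩⟩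
        · have := (T₁ ⊔ T₂).mul_mem (hhd x) (hgd (h x))
          rwa [mul_assoc, mul_inv_cancel_left] at this
        · have := T₂.mul_mem (hn hT₂ a (hKS ha) _ (hhc x hx)) (hga (h x) (hhU x hx))
          rw [MulAut.mul_apply, show (a * c * (x : Ω) * (a * c)⁻¹)⁻¹ * (g (h x) : Ω) =
            a * ((c * x * c⁻¹)⁻¹ * (h x : Ω)) * a⁻¹ *
              ((a * (h x : Ω) * a⁻¹)⁻¹ * (g (h x) : Ω)) by group]
          exact this
        · have := T₁.mul_mem (hn hT₁ b (hKS hb) _ (hhd' x hx)) (hgb (h x) (hhU x hx))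
          rw [MulAut.mul_apply, show (b * d * (x : Ω) * (b * d)⁻¹)⁻¹ * (g (h x) : Ω) =
            b * ((d * x * d⁻¹)⁻¹ * (h x : Ω)) * b⁻¹ *
              ((b * (h x : Ω) * b⁻¹)⁻¹ * (g (h x) : Ω)) by group]
          exact this }
  let Γ : Subgroup (MulAut X) :=
    { Kset with
      inv_mem' := fun {a} ha => by
        obtain ⟨n, hn'⟩ : a⁻¹ ∈ Submonoid.powers a :=
          mem_powers_iff_mem_zpowers.2 (inv_mem (Subgroup.mem_zpowers a))
        exact hn' ▸ Submonoid.pow_mem Kset ha n }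
  have hΓp : IsPGroup p Γ := by
    rintro ⟨g, hgF, hgd, hgA, ⟨a, ha, hga⟩, b, hb, hgb⟩
    obtain ⟨k, hk⟩ := pow_eq_one_of_congruent hS hXS (K := T₁ ⊔ T₂) (A := T₁ ⊓ T₂) hgd (hKS ha)
      (hKS hb) rfl hga hgb (hn hT₂ a (hKS ha)) (hn hT₁ b (hKS hb)) (fun x hx => by
        have := (T₁ ⊔ T₂).mul_mem hx (hgd x)
        rwa [mul_inv_cancel_left] at this) fun x _ hx => hgA x hx
    exact ⟨k, Subtype.ext hk⟩
  have hclosed : ∀ {T : Subgroup Ω}, F.StronglyClosed T → ∀ h ∈ F.autGroup X, ∀ x : X,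
      (x : Ω) ∈ T → (h x : Ω) ∈ T := fun hT h hh x hx =>
    hT.2 _ inf_le_right _ (restrict_mem (autGroup_hom_mem hXS hh) inf_le_left) ⟨x, x.2, hx⟩
  have hΓn : ∀ h ∈ F.autGroup X, ∀ g ∈ Γ, h * g * h⁻¹ ∈ Γ := by
    rintro h hh g ⟨hgF, hgd, hgA, ⟨a, ha, hga⟩, b, hb, hgb⟩
    have hi : ∀ {T : Subgroup Ω}, F.StronglyClosed T → ∀ x : X, (x : Ω) ∈ T →
        (h⁻¹ x : Ω) ∈ T := fun hT x hx => hclosed hT _ (inv_mem hh) x hx
    refine ⟨mul_mem (mul_mem hh hgF) (inv_mem hh), fun x => ?_, fun x hx => ?_,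
      ⟨h ⟨a, ha.1⟩, ⟨(h _).2, hclosed hU h hh _ ha.2⟩, fun x hx => ?_⟩,
      ⟨h ⟨b, hb.1⟩, ⟨(h _).2, hclosed hU h hh _ hb.2⟩, fun x hx => ?_⟩⟩
    · obtain ⟨x, rfl⟩ := h.surjective x
      rw [MulAut.mul_apply, MulAut.mul_apply, MulAut.inv_apply_self]
      have h1 := hclosed hU h hh (x⁻¹ * g x) (hgd x)
      rw [map_mul, map_inv, Subgroup.coe_mul, Subgroup.coe_inv] at h1
      exact h1
    · rw [MulAut.mul_apply, MulAut.mul_apply, hgA _ ⟨hi hT₁ x hx.1, hi hT₂ x hx.2⟩,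
        MulAut.apply_inv_self]
    · have hy := hi hU x hx
      obtain ⟨x, rfl⟩ := h.surjective x
      rw [MulAut.inv_apply_self] at hy
      rw [MulAut.mul_apply, MulAut.mul_apply, MulAut.inv_apply_self]
      have h1 := hclosed hT₂ h hh ((⟨a, ha.1⟩ * x * (⟨a, ha.1⟩ : X)⁻¹)⁻¹ * g x) (hga x hy)
      simp only [map_mul, map_inv, Subgroup.coe_mul, Subgroup.coe_inv] at h1
      exact h1
    · have hy := hi hU x hx
      obtain ⟨x, rfl⟩ := h.surjective x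
      rw [MulAut.inv_apply_self] at hy
      rw [MulAut.mul_apply, MulAut.mul_apply, MulAut.inv_apply_self]
      have h1 := hclosed hT₁ h hh ((⟨b, hb.1⟩ * x * (⟨b, hb.1⟩ : X)⁻¹)⁻¹ * g x) (hgb x hy)
      simp only [map_mul, map_inv, Subgroup.coe_mul, Subgroup.coe_inv] at h1
      exact h1
  have hΓle : Γ ≤ Inn X := by
    rw [← hXr.2]
    intro g hg
    refine ⟨⟨g, hg.1⟩, (le_sSup ?_ : Γ.subgroupOf (F.autGroup X) ≤ pCore p _) hg, rfl⟩
    exact ⟨⟨fun a ha f => hΓn f f.2 a ha⟩, hΓp.comap_subtype⟩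
  -- an element of `Y` normalizing `X` induces such an automorphism
  have hkey : ∀ y ∈ Y, y ∈ Subgroup.normalizer (X : Set Ω) → y ∈ X := by
    intro y hy hyN
    have hyS : y ∈ S := hT₁.1 hy.1
    obtain ⟨k, hk, b, hb, hkb⟩ := (mem_sup_stronglyClosed hT₂ hKS).1 hy.2
    have hg : conjAut X y hyN ∈ Γ := by
      refine ⟨autInducedBy_le_autGroup hXS (mem_autInducedBy.2 ⟨y, hyS, fun _ => rfl⟩),
        fun x => ?_, fun x hx => ?_, ⟨k, hk, fun x hx => ?_⟩, ⟨1, one_mem _, fun x hx => ?_⟩⟩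
      · show (x : Ω)⁻¹ * (y * x * y⁻¹) ∈ T₁ ⊔ T₂
        rw [show (x : Ω)⁻¹ * (y * x * y⁻¹) = (x : Ω)⁻¹ * y * (x : Ω)⁻¹⁻¹ * y⁻¹ by group]
        exact Subgroup.mem_sup_left
          (T₁.mul_mem (hn hT₁ _ (S.inv_mem (hXS x.2)) y hy.1) (T₁.inv_mem hy.1))
      · refine Subtype.ext ?_
        show y * (x : Ω) * y⁻¹ = x
        rw [hA y (Subgroup.mem_sup_left hy.1) x hx, mul_inv_cancel_right]
      · show (k * (x : Ω) * k⁻¹)⁻¹ * (y * x * y⁻¹) ∈ T₂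
        rw [← hkb, show (k * (x : Ω) * k⁻¹)⁻¹ * (k * b * x * (k * b)⁻¹) =
          k * ((x : Ω)⁻¹ * b * (x : Ω)⁻¹⁻¹ * b⁻¹) * k⁻¹ by group]
        exact hn hT₂ k (hKS hk) _
          (T₂.mul_mem (hn hT₂ _ (S.inv_mem (hXS x.2)) b hb) (T₂.inv_mem hb))
      · show (1 * (x : Ω) * 1⁻¹)⁻¹ * (y * x * y⁻¹) ∈ T₁
        rw [show (1 * (x : Ω) * 1⁻¹)⁻¹ * (y * x * y⁻¹) =
          (x : Ω)⁻¹ * y * (x : Ω)⁻¹⁻¹ * y⁻¹ by group]
        exact T₁.mul_mem (hn hT₁ _ (S.inv_mem (hXS x.2)) y hy.1) (T₁.inv_mem hy.1)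
    have := hΓle hg
    rw [inn_eq_autInducedBy] at this
    obtain ⟨z, hz, hzx⟩ := mem_autInducedBy.1 this
    have hc : z⁻¹ * y ∈ X := centralizerIn_le_of_isCentric hXc
      ⟨S.mul_mem (S.inv_mem (hXS hz)) hyS, Subgroup.mem_centralizer_iff.2 fun x hx => by
        have e : y * x * y⁻¹ = z * x * z⁻¹ := hzx ⟨x, hx⟩
        calc x * (z⁻¹ * y) = z⁻¹ * (z * x * z⁻¹) * y := by group
          _ = z⁻¹ * (y * x * y⁻¹) * y := by rw [e]
          _ = z⁻¹ * y * x := by group⟩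
    have := X.mul_mem hz hc
    rwa [mul_inv_cancel_left] at this
  -- hence `Y ≤ X`
  have hYn : ∀ x ∈ X, ∀ y ∈ Y, x * y * x⁻¹ ∈ Y := by
    intro x hx y hy
    refine ⟨hn hT₁ x (hXS hx) y hy.1, ?_⟩
    obtain ⟨k, hk, b, hb, hkb⟩ := (mem_sup_stronglyClosed hT₂ hKS).1 hy.2
    rw [← hkb, show x * (k * b) * x⁻¹ = x * k * x⁻¹ * (x * b * x⁻¹) by group]
    exact Subgroup.mul_mem_sup ⟨X.mul_mem (X.mul_mem hx hk.1) (X.inv_mem hx),
      hn hU x (hXS hx) k hk.2⟩ (hn hT₂ x (hXS hx) b hb)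
  have hXY : (↑(X ⊔ Y) : Set Ω) = (X : Set Ω) * (Y : Set Ω) := by
    refine Subgroup.coe_mul_of_left_le_normalizer_right X Y fun x hx =>
      Subgroup.mem_normalizer_iff.2 fun y => ⟨hYn x hx y, fun h => ?_⟩
    have := hYn x⁻¹ (X.inv_mem hx) _ h
    simpa [mul_assoc] using this
  by_contra hne
  have hXYS : X ⊔ Y ≤ S := sup_le hXS (inf_le_left.trans hT₁.1)
  haveI : Finite (X ⊔ Y : Subgroup Ω) := finite_of_le hXYS
  have hlt := Fusion87.card_lt_normalizerIn (hS.to_le hXYS) (le_sup_left : X ≤ X ⊔ Y)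
    (fun e => hne (le_sup_right.trans e.ge))
  refine absurd (Subgroup.card_le_of_le (H := normalizerIn (X ⊔ Y) X) (K := X) fun z hz => ?_)
    (not_le.2 hlt)
  obtain ⟨x, hx, y, hy, rfl⟩ := Set.mem_mul.1 (hXY ▸ hz.1 : z ∈ (X : Set Ω) * (Y : Set Ω))
  refine X.mul_mem hx (hkey y hy ?_)
  have h1 := Subgroup.mul_mem _ (Subgroup.le_normalizer (X.inv_mem hx)) hz.2
  rwa [inv_mul_cancel_left] at h1

/-- The maps extending over the projections form a system. -/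
def projSystem [Finite S] (F : FusionSystem S) (T₁ T₂ : Subgroup Ω) (h₁ : F.StronglyClosed T₁)
    (h₂ : F.StronglyClosed T₂) (hU : F.StronglyClosed (T₁ ⊔ T₂)) : FusionSystem S where
  Hom P := {φ | φ ∈ F.Hom P ∧ ∃ ψ ∈ F.Hom (P ⊔ projections T₁ T₂ P),
    ∀ x : P, ψ (Subgroup.inclusion le_sup_left x) = φ x}
  le_of_mem h := F.le_of_mem h.1
  injective_of_mem h := F.injective_of_mem h.1
  conj_mem {P g} hP hg := ⟨F.conj_mem hP hg, conjHom _ g,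
    F.conj_mem (sup_le hP ((projections_le P).trans hU.1)) hg, fun x => rfl⟩
  comp_mem := by
    rintro P Q φ φ' ⟨hφ, ψ, hψ, hψP⟩ ⟨hφ', ψ', hψ', hψ'Q⟩ h
    have hPS := src_le hφ
    have hmem : ∀ z, ψ z ∈ Q ⊔ projections T₁ T₂ Q := by
      refine hom_sup_mem ψ (fun x => Subgroup.mem_sup_left (by rw [hψP]; exact h x)) fun z => ?_
      have hKS : P ⊓ (T₁ ⊔ T₂) ≤ S := inf_le_left.trans hPS
      have key : ∀ {A B : Subgroup Ω}, F.StronglyClosed A → F.StronglyClosed B →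
          ∀ a (ha : a ∈ A ⊓ (P ⊓ (T₁ ⊔ T₂) ⊔ B)) (hm : a ∈ P ⊔ projections T₁ T₂ P),
            ψ ⟨a, hm⟩ ∈ A ⊓ (Q ⊓ (T₁ ⊔ T₂) ⊔ B) := by
        intro A B hA hB a ha hm
        refine ⟨stronglyClosed_map hA hψ _ ha.1, ?_⟩
        obtain ⟨k, hk, b, hb, hkb⟩ := (mem_sup_stronglyClosed hB hKS).1 ha.2
        have hbm : b ∈ P ⊔ projections T₁ T₂ P := by
          rw [show b = k⁻¹ * a by rw [← hkb, inv_mul_cancel_left]]
          exact Subgroup.mul_mem _ (Subgroup.inv_mem _ (Subgroup.mem_sup_left hk.1)) hm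
        rw [show (⟨a, hm⟩ : (P ⊔ projections T₁ T₂ P : Subgroup Ω)) =
          Subgroup.inclusion le_sup_left ⟨k, hk.1⟩ * ⟨b, hbm⟩ from Subtype.ext hkb.symm, map_mul]
        refine Subgroup.mul_mem_sup ⟨?_, stronglyClosed_map hU hψ _ hk.2⟩
          (stronglyClosed_map hB hψ _ hb)
        rw [hψP]
        exact h _
      have hz := (sup_le (fun a ha => ?_) (fun a ha => ?_) :
        projections T₁ T₂ P ≤ ((projections T₁ T₂ Q).comap ψ).map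
          (P ⊔ projections T₁ T₂ P : Subgroup Ω).subtype) z.2
      · obtain ⟨w, hw, hwz⟩ := hz
        rw [show Subgroup.inclusion le_sup_right z = w from Subtype.ext hwz.symm]
        exact Subgroup.mem_sup_right hw
      · exact ⟨⟨a, Subgroup.mem_sup_right (Subgroup.mem_sup_left ha)⟩,
          Subgroup.mem_sup_left (key h₁ h₂ a ha _), rfl⟩
      · exact ⟨⟨a, Subgroup.mem_sup_right (Subgroup.mem_sup_right ha)⟩,
          Subgroup.mem_sup_right (key h₂ h₁ a ha _), rfl⟩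
    refine ⟨F.comp_mem hφ hφ' h, _, F.comp_mem hψ hψ' hmem, fun x => ?_⟩
    refine Eq.trans (congrArg ψ' (Subtype.ext (hψP x) : _ =
      Subgroup.inclusion le_sup_left (⟨φ x, h x⟩ : Q))) (hψ'Q _)
  inv_mem := by
    rintro P φ ⟨hφ, ψ, hψ, hψP⟩
    have hPS := src_le hφ
    have hRS : φ.range ≤ S := range_le hφ
    have hle : φ.range ⊔ projections T₁ T₂ φ.range ≤ ψ.range := by
      have key : ∀ {A B : Subgroup Ω}, F.StronglyClosed A → F.StronglyClosed B →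
          B ⊓ A ≤ P ⊔ projections T₁ T₂ P →
          T₁ ⊔ T₂ ≤ A ⊔ B → A ⊓ (P ⊓ (T₁ ⊔ T₂) ⊔ B) ≤ P ⊔ projections T₁ T₂ P →
          A ⊓ (φ.range ⊓ (T₁ ⊔ T₂) ⊔ B) ≤ ψ.range := by
        intro A B hA hB hAB hsup hAP a ha
        obtain ⟨k, hk, b, hb, hkb⟩ :=
          (mem_sup_stronglyClosed hB (inf_le_left.trans hRS)).1 ha.2
        obtain ⟨x, hx⟩ := hk.1
        have hxU : (x : Ω) ∈ T₁ ⊔ T₂ := by
          obtain ⟨χ, hχ, -, hχx, -⟩ := exists_inverse hφ rfl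
          rw [← hχx x ⟨x, rfl⟩]
          exact stronglyClosed_map hU hχ _ (show φ x ∈ T₁ ⊔ T₂ by rw [hx]; exact hk.2)
        obtain ⟨a₀, ha₀, b₀, hb₀, hab⟩ :=
          (mem_sup_stronglyClosed hB hA.1).1 (hsup hxU)
        have ha₀K : a₀ ∈ A ⊓ (P ⊓ (T₁ ⊔ T₂) ⊔ B) := by
          refine ⟨ha₀, ?_⟩
          rw [show a₀ = (x : Ω) * b₀⁻¹ by rw [← hab, mul_inv_cancel_right]]
          exact Subgroup.mul_mem_sup ⟨x.2, hxU⟩ (B.inv_mem hb₀)
        have hm₀ := hAP ha₀K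
        have hbm : b₀ ∈ P ⊔ projections T₁ T₂ P := by
          rw [show b₀ = a₀⁻¹ * x by rw [← hab, inv_mul_cancel_left]]
          exact Subgroup.mul_mem _ (Subgroup.inv_mem _ hm₀) (Subgroup.mem_sup_left x.2)
        have hψk : k = ψ ⟨a₀, hm₀⟩ * ψ ⟨b₀, hbm⟩ := by
          rw [← map_mul, ← hx, ← hψP]
          exact congrArg ψ (Subtype.ext hab.symm)
        have hint : (ψ ⟨a₀, hm₀⟩)⁻¹ * a ∈ B ⊓ A := by
          refine ⟨?_, A.mul_mem (A.inv_mem (stronglyClosed_map hA hψ _ ha₀)) ha.1⟩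
          rw [← hkb, hψk, mul_assoc, inv_mul_cancel_left]
          exact B.mul_mem (stronglyClosed_map hB hψ _ hb₀) hb
        obtain ⟨w, -, hw⟩ := FusionFactor.exists_eq_of_stronglyClosed F
          (⟨inf_le_left.trans hB.1, fun R hR χ hχ y => ⟨hB.2 R (hR.trans inf_le_left) χ hχ y,
            hA.2 R (hR.trans inf_le_right) χ hχ y⟩⟩ : F.StronglyClosed (B ⊓ A)) hψ hAB hint
        exact ⟨⟨a₀, hm₀⟩ * w, by rw [map_mul, hw, mul_inv_cancel_left]⟩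
      refine sup_le ?_ (sup_le (key h₁ h₂ ?_ le_rfl ?_) (key h₂ h₁ ?_ (sup_comm T₁ T₂).le ?_))
      · rintro _ ⟨x, rfl⟩
        exact ⟨_, hψP x⟩
      · exact le_sup_of_le_right (le_sup_of_le_left (le_inf inf_le_right
          (inf_le_left.trans le_sup_right)))
      · exact le_sup_of_le_right le_sup_left
      · exact le_sup_of_le_right (le_sup_of_le_left (le_inf inf_le_left
          (inf_le_right.trans le_sup_right)))
      · exact le_sup_of_le_right le_sup_right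
    refine ⟨_, ⟨rangeInv_mem hφ, _, restrict_mem (rangeInv_mem hψ) hle, fun y => ?_⟩,
      fun x => rangeInv_apply _ _ x _⟩
    obtain ⟨_, x, rfl⟩ := y
    refine Eq.trans ?_ (rangeInv_apply φ (F.injective_of_mem hφ) x _).symm
    refine Eq.trans (congrArg (rangeInv ψ (F.injective_of_mem hψ)) (Subtype.ext (hψP x).symm : _ =
      (⟨ψ (Subgroup.inclusion le_sup_left x), ⟨_, rfl⟩⟩ : ψ.range))) ?_
    exact rangeInv_apply ψ (F.injective_of_mem hψ) _ _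

/-- Every map extends over the projections. -/
theorem exists_ext_projections [Fact p.Prime] [Finite S] (hS : IsPGroup p S) (hF : F.IsSaturated p)
    (h₁ : F.StronglyClosed T₁) (h₂ : F.StronglyClosed T₂)
    (hcomm : ∀ a ∈ T₁, ∀ b ∈ T₂, a * b = b * a) {P : Subgroup Ω} {φ : P →* Ω}
    (hφ : φ ∈ F.Hom P) :
    ∃ ψ ∈ F.Hom (P ⊔ projections T₁ T₂ P),
      ∀ x : P, ψ (Subgroup.inclusion le_sup_left x) = φ x := by
  have hU := stronglyClosed_sup hS hF h₁ h₂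
  set H := projSystem F T₁ T₂ h₁ h₂ hU with hH
  have key : ∀ X : Subgroup Ω, X ≤ S → projections T₁ T₂ X ≤ X →
      F.autGroup X ≤ H.autGroup X := fun X hX hle α hα =>
    (mem_autGroup hX).2 ⟨autGroup_hom_mem hX hα, _,
      restrict_mem (autGroup_hom_mem hX hα) (sup_le le_rfl hle), fun x => rfl⟩
  refine (le_of_autGroup_le hS hF H (key S le_rfl ((projections_le S).trans hU.1))
    (fun X hX => key X hX.1.1 ?_) P hφ).2
  have hr := isRadical_of_isEssential hS hX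
  refine sup_le (projection_le_of_radical hS h₁ h₂ hU hcomm hX.1 hr) ?_
  have h := projection_le_of_radical hS h₂ h₁ (by rwa [sup_comm])
    (fun a ha b hb => (hcomm b hb a ha).symm) hX.1 hr
  rwa [sup_comm T₂ T₁] at h

end Cfsg.Agent.Lib.Fusion.NormalProduct
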