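/-
The central product of two normal subsystems centralizing each other is normal.
-/
import Cfsg.Agent.Lib.Fusion.NormalProduct.Projections
import Cfsg.Agent.Lib.Fusion.CentralProduct
import Cfsg.Agent.Lib.Fusion.CentralizerNormal
import Cfsg.Agent.Lib.Fusion.Solvable
import Cfsg.Agent.Lib.Fusion.Normal
import Cfsg.Agent.Lib.Fusion.PPowerNormal
import Cfsg.Agent.Lib.Fusion.TrivialAction
import Cfsg.Agent.Lib.Fusion.QuasisimpleBasic
import Cfsg.Agent.Lib.Fusion87.Central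
import Cfsg.Agent.S5119

set_option autoImplicit false

namespace Cfsg.Agent.Lib.Fusion.NormalProduct

open Cfsg Cfsg.FusionSystem
open Cfsg.Agent.Lib.FusionFactor (exists_productSystem exists_factorSystem)

universe u

variable {Ω : Type u} [Group Ω] {S T T' T₁ T₂ U : Subgroup Ω} {F : FusionSystem S}
  {E : FusionSystem T} {E₁ : FusionSystem T₁} {E₂ : FusionSystem T₂} {D : FusionSystem U} {p : ℕ}

/-- Centralizing systems: the maps of `E` extend fixing `T'`. -/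
def Centralizes (F : FusionSystem S) (E : FusionSystem T) (T' : Subgroup Ω) : Prop :=
  ∀ P, E.Hom P ⊆ F.centralizerHom T' P

theorem Centralizes.fixed (hc : Centralizes F E T') {P : Subgroup Ω} {φ : P →* Ω}
    (hφ : φ ∈ E.Hom P) (x : P) (hx : (x : Ω) ∈ T') : φ x = x := by
  obtain ⟨-, -, -, ψ, -, hψP, hψR⟩ := hc P hφ
  rw [← hψP x]
  exact (congrArg ψ (Subtype.ext rfl)).trans (hψR ⟨x, hx⟩)

theorem Centralizes.comm (hc : Centralizes F E T') {a b : Ω} (ha : a ∈ T) (hb : b ∈ T') :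
    a * b = b * a :=
  (Subgroup.mem_centralizer_iff.1 ((hc T (subtype_mem le_rfl)).2.1 ha).2 b hb).symm

theorem Centralizes.isCentral_inf [Fact p.Prime] [Finite T] (hT : IsPGroup p T)
    (hE : E.IsSaturated p) (hc : Centralizes F E T') : E.IsCentral (T ⊓ T') := by
  refine isCentral_of_fixed hT hE inf_le_left fun x hx y hy => ?_
  obtain ⟨φ, hφ, rfl⟩ := hy
  exact hc.fixed hφ _ hx.2

/-- The central product exists. -/
theorem exists_centralProduct [Fact p.Prime] [Finite S] (hS : IsPGroup p S) (h₁S : T₁ ≤ S)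
    (h₂S : T₂ ≤ S) (hE₁ : E₁.IsSaturated p) (hE₂ : E₂.IsSaturated p)
    (hc₁ : Centralizes F E₁ T₂) (hc₂ : Centralizes F E₂ T₁) :
    ∃ D : FusionSystem (T₁ ⊔ T₂), IsCentralProductOf E₁ E₂ D := by
  haveI : Finite T₁ := finite_of_le h₁S
  haveI : Finite T₂ := finite_of_le h₂S
  haveI : Finite (T₁.prod T₂ : Subgroup (Ω × Ω)) :=
    Finite.of_equiv _ (Subgroup.prodEquiv T₁ T₂).symm.toEquiv
  obtain ⟨D₀, hD₀⟩ := exists_productSystem E₁ E₂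
  let θ : ↥(T₁.prod T₂) →* Ω := MonoidHom.mk' (fun z => (z : Ω × Ω).1 * (z : Ω × Ω).2) (by
    rintro ⟨⟨a, b⟩, hab⟩ ⟨⟨a', b'⟩, hab'⟩
    show a * a' * (b * b') = a * b * (a' * b')
    have h := hc₁.comm (Subgroup.mem_prod.1 hab').1 (Subgroup.mem_prod.1 hab).2
    calc a * a' * (b * b') = a * (a' * b) * b' := by group
      _ = a * (b * a') * b' := by rw [h]
      _ = a * b * (a' * b') := by group)
  set Z : Subgroup (Ω × Ω) := θ.ker.map (T₁.prod T₂).subtype with hZdef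
  have hZle : Z ≤ T₁.prod T₂ := Subgroup.map_subtype_le _
  have hZmem : ∀ x ∈ Z, x.1 ∈ T₁ ∧ x.2 ∈ T₂ ∧ x.2 = x.1⁻¹ := by
    rintro _ ⟨⟨⟨a, b⟩, hab⟩, hk, rfl⟩
    have hk' : a * b = 1 := hk
    exact ⟨(Subgroup.mem_prod.1 hab).1, (Subgroup.mem_prod.1 hab).2,
      eq_inv_of_mul_eq_one_right hk'⟩
  have hker : ∀ s, θ s = 1 ↔ (s : Ω × Ω) ∈ Z := fun s =>
    ⟨fun h => ⟨s, h, rfl⟩, fun ⟨w, hw, hws⟩ => by rw [← Subtype.ext hws]; exact hw⟩
  have hcen : D₀.IsCentral Z := by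
    refine isCentral_of_fixed (isPGroup_prod (hS.to_le h₁S) (hS.to_le h₂S))
      (isSaturated_product (hS.to_le h₁S) (hS.to_le h₂S) hE₁ hE₂ hD₀) hZle fun x hx y hy => ?_
    obtain ⟨φ, hφ, rfl⟩ := hy
    obtain ⟨-, φ₁, hφ₁, φ₂, hφ₂, heq⟩ := (hD₀ _ φ).1 hφ
    obtain ⟨ha, hb, hab⟩ := hZmem x hx
    rw [heq ⟨x, Subgroup.mem_zpowers x⟩ ⟨x, Subgroup.mem_zpowers x, rfl⟩
      ⟨x, Subgroup.mem_zpowers x, rfl⟩]
    refine Prod.ext (hc₁.fixed hφ₁ _ ?_) (hc₂.fixed hφ₂ _ ?_)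
    · show x.1 ∈ T₂
      rw [← inv_inv x.1, ← hab]
      exact T₂.inv_mem hb
    · show x.2 ∈ T₁
      rw [hab]
      exact Subgroup.inv_mem _ ha
  have hrange : θ.range = T₁ ⊔ T₂ := by
    refine le_antisymm ?_ (sup_le (fun r hr => ?_) fun t ht => ?_)
    · rintro _ ⟨⟨⟨a, b⟩, hab⟩, rfl⟩
      exact Subgroup.mul_mem_sup (Subgroup.mem_prod.1 hab).1 (Subgroup.mem_prod.1 hab).2
    · exact ⟨⟨(r, 1), Subgroup.mem_prod.2 ⟨hr, T₂.one_mem⟩⟩, mul_one r⟩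
    · exact ⟨⟨(1, t), Subgroup.mem_prod.2 ⟨T₁.one_mem, ht⟩⟩, one_mul t⟩
  obtain ⟨D, hD⟩ := exists_factorSystem θ D₀ (stronglyClosed_of_isCentral' hcen) hker hrange
  refine ⟨D, D₀, hD₀, Z, θ, le_sSup hcen, ?_, ?_, fun x _ => mul_one x, fun y _ => one_mul y, hD⟩
  · rw [eq_bot_iff]
    rintro ⟨a, b⟩ ⟨hx, hx'⟩
    have hb : b = 1 := Subgroup.mem_bot.1 (Subgroup.mem_prod.1 hx').2
    have h := (hZmem _ hx).2.2
    subst hb
    rw [Subgroup.mem_bot, Prod.mk_eq_one]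
    exact ⟨inv_eq_one.1 h.symm, rfl⟩
  · rw [eq_bot_iff]
    rintro ⟨a, b⟩ ⟨hx, hx'⟩
    have ha : a = 1 := Subgroup.mem_bot.1 (Subgroup.mem_prod.1 hx').1
    have h := (hZmem _ hx).2.2
    subst ha
    rw [Subgroup.mem_bot, Prod.mk_eq_one]
    exact ⟨rfl, h.trans inv_one⟩

theorem isSaturated_centralProduct [Fact p.Prime] [Finite S] (hS : IsPGroup p S) (h₁S : T₁ ≤ S)
    (h₂S : T₂ ≤ S) (hE₁ : E₁.IsSaturated p) (hE₂ : E₂.IsSaturated p)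
    (hcp : IsCentralProductOf E₁ E₂ D) : D.IsSaturated p := by
  haveI : Finite T₁ := finite_of_le h₁S
  haveI : Finite T₂ := finite_of_le h₂S
  haveI : Finite (T₁.prod T₂ : Subgroup (Ω × Ω)) :=
    Finite.of_equiv _ (Subgroup.prodEquiv T₁ T₂).symm.toEquiv
  obtain ⟨D₀, hD₀, Z, θ, hZc, -, -, -, -, hfac⟩ := hcp
  refine isSaturated_of_isFactorSystem (isPGroup_prod (hS.to_le h₁S) (hS.to_le h₂S))
    (isSaturated_product (hS.to_le h₁S) (hS.to_le h₂S) hE₁ hE₂ hD₀)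
    ⟨hfac.1, fun P hP φ hφ x => ?_⟩ hfac
  rw [Fusion87.apply_eq_of_mem_center hφ x (hZc (hP x.2))]
  exact hP x.2

theorem isSubsystemOf_centralProduct [Finite S] (h₁S : T₁ ≤ S) (h₂S : T₂ ≤ S)
    (hc₁ : Centralizes F E₁ T₂) (hc₂ : Centralizes F E₂ T₁)
    (hcp : IsCentralProductOf E₁ E₂ D) : D.IsSubsystemOf F := by
  haveI : Finite T₁ := finite_of_le h₁S
  haveI : Finite T₂ := finite_of_le h₂S
  intro P φ hφ
  obtain ⟨P₁, P₂, φ₁, φ₂, hφ₁, hφ₂, hx⟩ := CentralProduct.exists_decomp hcp hφ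
  obtain ⟨-, -, -, ψ₁, hψ₁, hψ₁P, hψ₁R⟩ := hc₁ P₁ hφ₁
  obtain ⟨-, -, -, ψ₂, hψ₂, hψ₂P, hψ₂R⟩ := hc₂ P₂ hφ₂
  have hP₂T : P₂ ≤ T₂ := src_le hφ₂
  set R := P₁ ⊔ P₂ with hR
  have hle : R ≤ P₁ ⊔ T₂ := sup_le_sup_left hP₂T _
  have hmem : ∀ z : R, ψ₁.comp (Subgroup.inclusion hle) z ∈ P₂ ⊔ T₁ := by
    refine hom_sup_mem _ (fun a => ?_) fun b => ?_
    · show ψ₁ _ ∈ _
      rw [show Subgroup.inclusion hle (Subgroup.inclusion le_sup_left a) =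
        Subgroup.inclusion le_sup_left a from Subtype.ext rfl, hψ₁P]
      exact Subgroup.mem_sup_right (val_mem hφ₁ a)
    · show ψ₁ _ ∈ _
      rw [show Subgroup.inclusion hle (Subgroup.inclusion le_sup_right b) =
        Subgroup.inclusion le_sup_right (⟨b, hP₂T b.2⟩ : T₂) from Subtype.ext rfl, hψ₁R]
      exact Subgroup.mem_sup_left b.2
  obtain ⟨χ, hχ, hχx⟩ := exists_comp (restrict_mem hψ₁ hle) hψ₂ hmem
  have hP : P ≤ R := fun x hx' => by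
    obtain ⟨a, b, hab, -⟩ := hx ⟨x, hx'⟩
    rw [show x = a * b from hab]
    exact Subgroup.mul_mem_sup a.2 b.2
  refine mem_of_restrict hχ hP fun x => ?_
  obtain ⟨a, b, hab, hφab⟩ := hx x
  rw [hφab, hχx]
  have e : ψ₁.comp (Subgroup.inclusion hle) ⟨x, hP x.2⟩ = φ₁ a * b := by
    show ψ₁ _ = _
    rw [show Subgroup.inclusion hle ⟨(x : Ω), hP x.2⟩ = Subgroup.inclusion le_sup_left a *
      Subgroup.inclusion le_sup_right (⟨b, hP₂T b.2⟩ : T₂) from Subtype.ext hab, map_mul,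
      hψ₁P, hψ₁R]
  refine Eq.trans ?_ (congrArg ψ₂ (Subtype.ext e.symm :
    Subgroup.inclusion le_sup_right (⟨φ₁ a, val_mem hφ₁ a⟩ : T₁) *
      Subgroup.inclusion le_sup_left b =
      (⟨ψ₁.comp (Subgroup.inclusion hle) ⟨x, hP x.2⟩, hmem _⟩ : (P₂ ⊔ T₁ : Subgroup Ω))))
  rw [map_mul, hψ₂P, hψ₂R]

/-- The central product is weakly normal. -/
theorem isWeaklyNormalIn_centralProduct [Fact p.Prime] [Finite S] (hS : IsPGroup p S)
    (hE₁ : E₁.IsWeaklyNormalIn F p) (hE₂ : E₂.IsWeaklyNormalIn F p)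
    (hc₁ : Centralizes F E₁ T₂) (hc₂ : Centralizes F E₂ T₁)
    (hcp : IsCentralProductOf E₁ E₂ D) : D.IsWeaklyNormalIn F p := by
  have h₁c := hE₁.2.2.2.1
  have h₂c := hE₂.2.2.2.1
  haveI : Finite T₁ := finite_of_le h₁c.1
  haveI : Finite T₂ := finite_of_le h₂c.1
  obtain ⟨htop, hcomm, hdec⟩ := CentralProduct.top_eq_and_comm hcp
  subst htop
  have hDF := isSubsystemOf_centralProduct h₁c.1 h₂c.1 hc₁ hc₂ hcp
  have hF := hE₁.2.1
  have hUc := stronglyClosed_sup hS hF h₁c h₂c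
  refine ⟨isSaturated_centralProduct hS h₁c.1 h₂c.1 hE₁.1 hE₂.1 hcp, hF,
    (S5119.result p hS F hF D hDF hUc).2 fun P Q hPQ hQU φ hφ hφQ ψ hψ => ?_⟩
  obtain ⟨Ψ, hΨ, hΨQ⟩ := exists_ext_projections hS hF h₁c h₂c hcomm hψ
  obtain ⟨P₁, P₂, φ₁, φ₂, hφ₁, hφ₂, hx⟩ := CentralProduct.exists_decomp hcp hφ
  set R₁ := T₁ ⊓ (Q ⊓ (T₁ ⊔ T₂) ⊔ T₂) with hR₁
  set R₂ := T₂ ⊓ (Q ⊓ (T₁ ⊔ T₂) ⊔ T₁) with hR₂
  have hR₁Q : R₁ ≤ Q ⊔ projections T₁ T₂ Q := le_sup_of_le_right le_sup_left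
  have hR₂Q : R₂ ≤ Q ⊔ projections T₁ T₂ Q := le_sup_of_le_right le_sup_right
  set P₁' : Subgroup Ω := ((R₁.comap P₁.subtype) ⊓ (R₁.comap φ₁)).map P₁.subtype with hP₁'
  set P₂' : Subgroup Ω := ((R₂.comap P₂.subtype) ⊓ (R₂.comap φ₂)).map P₂.subtype with hP₂'
  have hle₁ : P₁' ≤ P₁ := Subgroup.map_subtype_le _
  have hle₂ : P₂' ≤ P₂ := Subgroup.map_subtype_le _
  have hP₁R : P₁' ≤ R₁ := by rintro _ ⟨w, hw, rfl⟩; exact hw.1
  have hP₂R : P₂' ≤ R₂ := by rintro _ ⟨w, hw, rfl⟩; exact hw.1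
  have hφ₁R : ∀ w : P₁', φ₁.comp (Subgroup.inclusion hle₁) w ∈ R₁ := by
    rintro ⟨_, w, hw, rfl⟩
    exact hw.2
  have hφ₂R : ∀ w : P₂', φ₂.comp (Subgroup.inclusion hle₂) w ∈ R₂ := by
    rintro ⟨_, w, hw, rfl⟩
    exact hw.2
  obtain ⟨χ₁, hχ₁, hχ₁x⟩ := (S5119.result p hS F hF E₁ hE₁.2.2.1 h₁c).1 hE₁.2.2
    P₁' R₁ hP₁R inf_le_left _ (restrict_mem hφ₁ hle₁) hφ₁R _ (restrict_mem hΨ hR₁Q)
  obtain ⟨χ₂, hχ₂, hχ₂x⟩ := (S5119.result p hS F hF E₂ hE₂.2.2.1 h₂c).1 hE₂.2.2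
    P₂' R₂ hP₂R inf_le_left _ (restrict_mem hφ₂ hle₂) hφ₂R _ (restrict_mem hΨ hR₂Q)
  obtain ⟨θ, hθ, hθ1, hθ2⟩ := CentralProduct.exists_hom_sup hcp hχ₁ hχ₂
  have hproj : ∀ x ∈ Q, ∀ a ∈ T₁, ∀ b ∈ T₂, x = a * b → a ∈ R₁ ∧ b ∈ R₂ := by
    intro x hx a ha b hb hab
    refine ⟨⟨ha, ?_⟩, ⟨hb, ?_⟩⟩
    · rw [show a = x * b⁻¹ by rw [hab, mul_inv_cancel_right]]
      exact Subgroup.mul_mem_sup ⟨hx, hQU hx⟩ (T₂.inv_mem hb)
    · rw [show b = a⁻¹ * x by rw [hab, inv_mul_cancel_left]]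
      exact Subgroup.mul_mem _ (Subgroup.mem_sup_right (T₁.inv_mem ha))
        (Subgroup.mem_sup_left ⟨hx, hQU hx⟩)
  have key : ∀ x : P, ∃ w : ↥((P₁'.subgroupOf R₁).map (Ψ.comp (Subgroup.inclusion hR₁Q)) ⊔
      (P₂'.subgroupOf R₂).map (Ψ.comp (Subgroup.inclusion hR₂Q))),
      (w : Ω) = ψ (Subgroup.inclusion hPQ x) ∧ θ w = ψ ⟨φ x, hφQ x⟩ := by
    intro x
    obtain ⟨a, b, hab, hφab⟩ := hx x
    obtain ⟨haR, hbR⟩ := hproj x (hPQ x.2) a (src_le hφ₁ a.2) b (src_le hφ₂ b.2) hab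
    obtain ⟨hφaR, hφbR⟩ := hproj (φ x) (hφQ x) _ (val_mem hφ₁ a) _ (val_mem hφ₂ b) hφab
    have haP : (a : Ω) ∈ P₁' := ⟨a, ⟨haR, hφaR⟩, rfl⟩
    have hbP : (b : Ω) ∈ P₂' := ⟨b, ⟨hbR, hφbR⟩, rfl⟩
    have himg₁ : Ψ ⟨a, hR₁Q haR⟩ ∈ (P₁'.subgroupOf R₁).map
        (Ψ.comp (Subgroup.inclusion hR₁Q)) := ⟨⟨a, haR⟩, haP, rfl⟩
    have himg₂ : Ψ ⟨b, hR₂Q hbR⟩ ∈ (P₂'.subgroupOf R₂).map
        (Ψ.comp (Subgroup.inclusion hR₂Q)) := ⟨⟨b, hbR⟩, hbP, rfl⟩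
    refine ⟨Subgroup.inclusion le_sup_left ⟨_, himg₁⟩ * Subgroup.inclusion le_sup_right ⟨_, himg₂⟩,
      ?_, ?_⟩
    · rw [Subgroup.coe_mul, ← hΨQ]
      show Ψ _ * Ψ _ = Ψ _
      rw [← map_mul]
      exact congrArg Ψ (Subtype.ext hab.symm)
    · rw [map_mul, hθ1, hθ2, ← hΨQ]
      refine (congrArg₂ (· * ·) (hχ₁x ⟨a, haP⟩ himg₁) (hχ₂x ⟨b, hbP⟩ himg₂)).trans ?_
      show Ψ ⟨φ₁ a, hR₁Q hφaR⟩ * Ψ ⟨φ₂ b, hR₂Q hφbR⟩ = _
      rw [← map_mul]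
      exact congrArg Ψ (Subtype.ext hφab.symm)
  refine ⟨_, restrict_mem hθ (?_ : (P.subgroupOf Q).map ψ ≤ _), fun x hx' => ?_⟩
  · rintro _ ⟨y, hy, rfl⟩
    obtain ⟨w, hw, -⟩ := key ⟨y, hy⟩
    rw [show ψ y = (w : Ω) from hw.symm]
    exact w.2
  · obtain ⟨w, hw, hθw⟩ := key x
    rw [← hθw]
    exact congrArg θ (Subtype.ext hw.symm)

/-- Automorphisms of `T` in `E` extend to extendable automorphisms of `U = TT'` fixing `T'`. -/
theorem exists_extendable [Fact p.Prime] [Finite S] (hS : IsPGroup p S) (hT' : F.StronglyClosed T')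
    (hE : E.IsNormalIn F p) (hc : Centralizes F E T') (hU : T ⊔ T' = U) {α : MulAut T}
    (hα : α ∈ E.autGroup T) :
    ∃ γ ∈ extendableAut F U,
      (∀ r : U, (r : Ω) ∈ T' → (γ r : Ω) = r) ∧
      ∀ (u : U) (t : T), (u : Ω) = t → (γ u : Ω) = α t := by
  have hTS : T ≤ S := hE.1.2.2.2.1.1
  have hUS : U ≤ S := hU ▸ sup_le hTS hT'.1
  have hTU : T ≤ U := hU ▸ le_sup_left
  have hT'U : T' ≤ U := hU ▸ le_sup_right
  haveI : Finite T := finite_of_le hTS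
  haveI : Finite U := finite_of_le hUS
  haveI := finite_mulAut (S := T) (le_refl T)
  let K : Submonoid (MulAut T) :=
    { carrier := {a | ∃ γ ∈ extendableAut F U,
        (∀ r : U, (r : Ω) ∈ T' → (γ r : Ω) = r) ∧
        ∀ (u : U) (t : T), (u : Ω) = t → (γ u : Ω) = a t}
      one_mem' := ⟨1, ⟨1, one_mem _, fun x => rfl, fun c _ => by
        show (c : Ω)⁻¹ * (c : Ω) ∈ _
        rw [inv_mul_cancel]; exact one_mem _⟩, fun r _ => rfl, fun u t h => h⟩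
      mul_mem' := by
        rintro a b ⟨γ, hγ, hγR, hγT⟩ ⟨γ', hγ', hγ'R, hγ'T⟩
        refine ⟨γ * γ', extendableAut_mul hUS hγ hγ', fun r hr => ?_, fun u t h => ?_⟩
        · rw [MulAut.mul_apply, show γ' r = r from Subtype.ext (hγ'R r hr)]
          exact hγR r hr
        · rw [MulAut.mul_apply]
          exact hγT _ _ (hγ'T u t h) }
  let H : Subgroup (MulAut T) :=
    { K with
      inv_mem' := fun {a} ha => by
        obtain ⟨n, hn⟩ : a⁻¹ ∈ Submonoid.powers a :=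
          mem_powers_iff_mem_zpowers.2 (inv_mem (Subgroup.mem_zpowers a))
        exact hn ▸ Submonoid.pow_mem K ha n }
  refine (?_ : E.autGroup T ≤ H) hα
  refine (autGroup_le_pResidual_sup (hS.to_le hTS) hE.1.1 (isFullyNormalized_top E)).trans
    (sup_le ?_ ((Subgroup.closure_le _).2 ?_))
  · rintro _ ⟨⟨a, ha⟩, har, rfl⟩
    refine (Subgroup.closure_le (H.comap (E.autGroup T).subtype)).2 ?_ har
    rintro ⟨b, hbE⟩ hb
    have hco : (orderOf b).Coprime p := by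
      rw [← Subgroup.orderOf_mk b hbE]; exact hb
    obtain ⟨β₀, hβ₀, hag₀⟩ := exists_trivLift_top hE hbE
    obtain ⟨β, ⟨hβF, hβi, hβd⟩, hβco, hag⟩ := exists_coprime_lift hβ₀ hag₀ hco
    have hRC : T' ≤ centralizerIn S T := fun r hr => ⟨hT'.1 hr,
      Subgroup.mem_centralizer_iff.2 fun t ht => hc.comm ht hr⟩
    have hbfix : ∀ w : T, (w : Ω) ∈ T' → (b w : Ω) = w := fun w hw =>
      hc.fixed (autGroup_hom_mem le_rfl hbE) w hw
    have hW : cenSup S T ≤ S := cenSup_le hTS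
    have hRW : T' ≤ cenSup S T := hRC.trans le_sup_right
    have hβRmem : ∀ r : T', (β (Subgroup.inclusion hRW r) : Ω) ∈ T' :=
      hT'.2 T' le_rfl _ (restrict_mem (autGroup_hom_mem hW hβF) hRW)
    have hβR : ∀ r : T', (β (Subgroup.inclusion hRW r) : Ω) = r := by
      intro r
      set w := Subgroup.inclusion hRW r with hw
      have hq : ((w⁻¹ * β w : cenSup S T) : Ω) ∈ T' ⊓ T :=
        ⟨Subgroup.mul_mem _ (Subgroup.inv_mem _ r.2) (hβRmem r), hβd w (hRC r.2)⟩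
      have hqfix : (β (w⁻¹ * β w) : Ω) = ((w⁻¹ * β w : cenSup S T) : Ω) := by
        rw [show w⁻¹ * β w = Subgroup.inclusion le_sup_left (⟨_, hq.2⟩ : T) from Subtype.ext rfl,
          hag]
        exact hbfix _ hq.1
      have h1 := TrivialAction.map_eq_one_of_coprime (hS.to_le hW) (cenSup S T).subtype β hβco
        (fun v hv => by
          rw [show v = 1 from Subtype.ext hv, map_one]; rfl)
        (x := w) (q := w⁻¹ * β w) (by
          show (β w : Ω) = (w : Ω) * ((w : Ω)⁻¹ * (β w : Ω))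
          rw [mul_inv_cancel_left]) hqfix
      exact (inv_mul_eq_one.1 h1).symm
    subst hU
    have hUW : T ⊔ T' ≤ cenSup S T := sup_le le_sup_left hRW
    set V := T ⊔ T' ⊔ centralizerIn S (T ⊔ T') with hV
    have hVW : V ≤ cenSup S T :=
      sup_le hUW ((centralizerIn_anti le_sup_left).trans le_sup_right)
    haveI : Finite V := finite_of_le (hVW.trans hW)
    have hU : ∀ u : ↥(T ⊔ T'), (β (Subgroup.inclusion hUW u) : Ω) ∈ T ⊔ T' :=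
      hom_sup_mem ((autHom β).comp (Subgroup.inclusion hUW))
        (fun t => Subgroup.mem_sup_left (by
          show (β _ : Ω) ∈ T
          exact (hβi _).2 t.2))
        fun r => Subgroup.mem_sup_right (hβRmem r)
    have hd : ∀ c : cenSup S T, (c : Ω) ∈ centralizerIn S (T ⊔ T') →
        (c : Ω)⁻¹ * (β c : Ω) ∈ (T ⊔ T') ⊓ Subgroup.centralizer ((T ⊔ T' : Subgroup Ω) : Set Ω) := by
      intro c hc'
      have hcT : (c : Ω) ∈ centralizerIn S T := centralizerIn_anti le_sup_left hc'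
      have hzT := hβd c hcT
      have hzC : (c : Ω)⁻¹ * (β c : Ω) ∈ Subgroup.centralizer (T : Set Ω) :=
        Subgroup.mul_mem _ (Subgroup.inv_mem _ hcT.2)
          (apply_mem_centralizerIn_of_iff hTS hβi c hcT).2
      refine ⟨Subgroup.mem_sup_left hzT, ?_⟩
      have hle : T ⊔ T' ≤ Subgroup.centralizer {(c : Ω)⁻¹ * (β c : Ω)} := sup_le
        (fun t ht => Subgroup.mem_centralizer_iff.2 (by
          intro u hu; rw [Set.mem_singleton_iff.1 hu]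
          exact (Subgroup.mem_centralizer_iff.1 hzC t ht).symm))
        fun r hr => Subgroup.mem_centralizer_iff.2 (by
          intro u hu; rw [Set.mem_singleton_iff.1 hu]
          exact hc.comm hzT hr)
      exact Subgroup.mem_centralizer_iff.2 fun u hu =>
        (Subgroup.mem_centralizer_iff.1 (hle hu) _ rfl).symm
    have hVV : ∀ v : V, (autHom β).comp (Subgroup.inclusion hVW) v ∈ V := by
      refine hom_sup_mem _ (fun u => Subgroup.mem_sup_left (hU u)) fun c => ?_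
      show (β _ : Ω) ∈ V
      rw [show (β (Subgroup.inclusion hVW (Subgroup.inclusion le_sup_right c)) : Ω) =
        (c : Ω) * ((c : Ω)⁻¹ *
          (β (Subgroup.inclusion hVW (Subgroup.inclusion le_sup_right c)) : Ω)) by
        rw [mul_inv_cancel_left]]
      exact Subgroup.mul_mem _ (Subgroup.mem_sup_right c.2)
        (Subgroup.mem_sup_left
          (hd (Subgroup.inclusion hVW (Subgroup.inclusion le_sup_right c)) c.2).1)
    obtain ⟨β', hβ', hβ'x⟩ :=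
      exists_aut_of_hom (restrict_mem (autGroup_hom_mem hW hβF) hVW) hVV
    obtain ⟨γ, -, hγx⟩ := exists_aut_of_hom
      (restrict_mem (autGroup_hom_mem hW hβF) hUW) hU
    refine ⟨γ, ⟨β', hβ', fun u => (hβ'x _).trans (hγx u).symm, fun c hc' => ?_⟩,
      fun r hr => (hγx _).trans (hβR ⟨r, hr⟩), fun u t h => (hγx _).trans ?_⟩
    · rw [hβ'x]
      exact hd (Subgroup.inclusion hVW c) hc'
    · exact (congrArg (fun z : cenSup S T => (β z : Ω)) (Subtype.ext h :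
        Subgroup.inclusion hUW u = Subgroup.inclusion le_sup_left t)).trans (hag t)
  · rintro a ⟨t, ht, hat⟩
    have htU : t ∈ U := hTU ht
    refine ⟨conjAut U t (Subgroup.le_normalizer htU), ⟨conjAut _ t
      (Subgroup.le_normalizer (Subgroup.mem_sup_left htU)), ?_, fun x => rfl, fun c hc' => ?_⟩,
      fun r hr => ?_, fun u t' h => ?_⟩
    · exact autInducedBy_le_autGroup (sup_le hUS inf_le_left)
        (mem_autInducedBy.2 ⟨t, hTS ht, fun _ => rfl⟩)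
    · show (c : Ω)⁻¹ * (t * c * t⁻¹) ∈ _
      rw [Subgroup.mem_centralizer_iff.1 hc'.2 t htU, mul_inv_cancel_right, inv_mul_cancel]
      exact one_mem _
    · show t * (r : Ω) * t⁻¹ = r
      rw [hc.comm ht hr, mul_inv_cancel_right]
    · show t * (u : Ω) * t⁻¹ = _
      rw [h]
      exact (hat t').symm

/-- The central product of two normal subsystems centralizing each other is normal. -/
theorem isNormalIn_centralProduct [Fact p.Prime] [Finite S] (hS : IsPGroup p S)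
    (hE₁ : E₁.IsNormalIn F p) (hE₂ : E₂.IsNormalIn F p)
    (hc₁ : Centralizes F E₁ T₂) (hc₂ : Centralizes F E₂ T₁)
    (hcp : IsCentralProductOf E₁ E₂ D) : D.IsNormalIn F p := by
  have h₁c := hE₁.1.2.2.2.1
  have h₂c := hE₂.1.2.2.2.1
  haveI : Finite T₁ := finite_of_le h₁c.1
  haveI : Finite T₂ := finite_of_le h₂c.1
  refine ⟨isWeaklyNormalIn_centralProduct hS hE₁.1 hE₂.1 hc₁ hc₂ hcp, ?_⟩
  obtain ⟨htop, hcomm, hdec⟩ := CentralProduct.top_eq_and_comm hcp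
  subst htop
  have hUS : T₁ ⊔ T₂ ≤ S := sup_le h₁c.1 h₂c.1
  intro α hα
  refine (?_ : α ∈ extendableAut F (T₁ ⊔ T₂))
  obtain ⟨P₁, P₂, φ₁, φ₂, hφ₁, hφ₂, hx⟩ :=
    CentralProduct.exists_decomp hcp (autGroup_hom_mem le_rfl hα)
  obtain ⟨ψ₁, hψ₁, hψ₁P, -⟩ := (hc₁.isCentral_inf (hS.to_le h₁c.1) hE₁.1.1).2 P₁ φ₁ hφ₁
  obtain ⟨ψ₂, hψ₂, hψ₂P, -⟩ := (hc₂.isCentral_inf (hS.to_le h₂c.1) hE₂.1.1).2 P₂ φ₂ hφ₂
  have hT₁ : T₁ ≤ P₁ ⊔ (T₁ ⊓ T₂) := by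
    intro t ht
    obtain ⟨a, b, hab, -⟩ := hx ⟨t, Subgroup.mem_sup_left ht⟩
    have hab' : t = a * b := hab
    rw [hab']
    refine Subgroup.mul_mem_sup a.2 ⟨?_, src_le hφ₂ b.2⟩
    rw [show (b : Ω) = (a : Ω)⁻¹ * t by rw [hab', inv_mul_cancel_left]]
    exact Subgroup.mul_mem _ (Subgroup.inv_mem _ (src_le hφ₁ a.2)) ht
  have hT₂ : T₂ ≤ P₂ ⊔ (T₂ ⊓ T₁) := by
    intro t ht
    obtain ⟨a, b, hab, -⟩ := hx ⟨t, Subgroup.mem_sup_right ht⟩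
    have hab' : t = a * b := hab
    rw [hab']
    refine Subgroup.mul_mem _ (Subgroup.mem_sup_right ⟨?_, src_le hφ₁ a.2⟩)
      (Subgroup.mem_sup_left b.2)
    rw [show (a : Ω) = t * (b : Ω)⁻¹ by rw [hab', mul_inv_cancel_right]]
    exact Subgroup.mul_mem _ ht (Subgroup.inv_mem _ (src_le hφ₂ b.2))
  obtain ⟨a₁, ha₁, ha₁x⟩ := exists_aut_of_hom (restrict_mem hψ₁ hT₁) fun x => val_mem hψ₁ _
  obtain ⟨a₂, ha₂, ha₂x⟩ := exists_aut_of_hom (restrict_mem hψ₂ hT₂) fun x => val_mem hψ₂ _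
  obtain ⟨γ₁, hγ₁, hγ₁R, hγ₁T⟩ := exists_extendable hS h₂c hE₁ hc₁ rfl ha₁
  obtain ⟨γ₂, hγ₂, hγ₂R, hγ₂T⟩ :=
    exists_extendable (U := T₁ ⊔ T₂) hS h₁c hE₂ hc₂ (sup_comm _ _) ha₂
  have heq : α = γ₁ * γ₂ := by
    refine MulEquiv.ext fun x => Subtype.ext ?_
    obtain ⟨a, b, hab, hφab⟩ := hx x
    have haT : (a : Ω) ∈ T₁ := src_le hφ₁ a.2
    have hbT : (b : Ω) ∈ T₂ := src_le hφ₂ b.2
    set u₁ : ↥(T₁ ⊔ T₂) := ⟨a, Subgroup.mem_sup_left haT⟩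
    set u₂ : ↥(T₁ ⊔ T₂) := ⟨b, Subgroup.mem_sup_right hbT⟩
    have e₁ : (γ₁ u₁ : Ω) = φ₁ a := by
      rw [hγ₁T u₁ ⟨a, haT⟩ rfl, ha₁x]
      exact (congrArg ψ₁ (Subtype.ext rfl)).trans (hψ₁P a)
    have e₂ : (γ₂ u₂ : Ω) = φ₂ b := by
      rw [hγ₂T u₂ ⟨b, hbT⟩ rfl, ha₂x]
      exact (congrArg ψ₂ (Subtype.ext rfl)).trans (hψ₂P b)
    refine hφab.trans ?_
    rw [show x = u₁ * u₂ from Subtype.ext hab, MulAut.mul_apply, map_mul, map_mul,
      Subgroup.coe_mul, show γ₂ u₁ = u₁ from Subtype.ext (hγ₂R u₁ haT), e₁,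
      hγ₁R (γ₂ u₂) (by rw [e₂]; exact val_mem hφ₂ b), e₂]
  rw [heq]
  exact extendableAut_mul hUS hγ₁ hγ₂

end Cfsg.Agent.Lib.Fusion.NormalProduct
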