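/-
Two normal subsystems on commuting subgroups have a normal product.
-/
import Cfsg.Agent.Lib.Fusion.NormalProduct.Normal
import Cfsg.Agent.Lib.Fusion.ComponentCentralizer
import Cfsg.Agent.Lib.Fusion.Component.LayerNormal
import Cfsg.Agent.Lib.Fusion.Wedge.Saturated

set_option autoImplicit false
set_option linter.style.haveILetI false

namespace Cfsg.Agent.Lib.Fusion.NormalProduct

open Cfsg Cfsg.FusionSystem

universe u

variable {Ω : Type u} [Group Ω] {S T T' T₁ T₂ : Subgroup Ω} {F : FusionSystem S}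
  {E : FusionSystem T} {p : ℕ}

/-- A strongly closed subgroup commuting with `T` and meeting it in the centre of `E` is
centralized by `E`. -/
theorem centralizes_of_center [Fact p.Prime] [Finite S] (hS : IsPGroup p S)
    (hE : E.IsNormalIn F p) (hT' : F.StronglyClosed T')
    (hcomm : ∀ a ∈ T, ∀ b ∈ T', a * b = b * a) (hA : T ⊓ T' ≤ E.center) :
    Centralizes F E T' := by
  have hTS : T ≤ S := hE.1.2.2.2.1.1
  haveI : Finite T := finite_of_le hTS
  have hT'C : T' ≤ centralizerIn S T := fun r hr =>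
    ⟨hT'.1 hr, Subgroup.mem_centralizer_iff.2 fun t ht => hcomm t ht r hr⟩
  refine Component.centralizes_anti (fun P => hom_subset_centralizerHom_centFix (hTS := hTS) hS hE P)
    fun x hx => ⟨hT'C hx, ?_⟩
  intro a ha hai P hP hPT _ _ β hβ hco hα h
  obtain ⟨α, hα, hag⟩ := hα
  obtain ⟨hβF, -, hβd⟩ := hβ
  have hy : (a ⟨x, Subgroup.mem_sup_right (hT'C hx)⟩ : Ω) ∈ T' :=
    stronglyClosed_map hT' (autGroup_hom_mem (cenSup_le hTS) ha) _ hx
  have hW : cenSup S P ≤ S := cenSup_le hP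
  set w : cenSup S P := ⟨_, h⟩ with hw
  have hwC : (w : Ω) ∈ centralizerIn S P := centralizerIn_anti hPT (hT'C hy)
  have hβw : (β w : Ω) ∈ T' := stronglyClosed_map hT' (autGroup_hom_mem hW hβF) w hy
  have hqP : ((w⁻¹ * β w : cenSup S P) : Ω) ∈ P := hβd w hwC
  have hqfix : (β (w⁻¹ * β w) : Ω) = ((w⁻¹ * β w : cenSup S P) : Ω) := by
    rw [show w⁻¹ * β w = Subgroup.inclusion le_sup_left (⟨_, hqP⟩ : P) from Subtype.ext rfl, hag]
    exact QuotientNormal.apply_eq_of_central (FusionFactor.isCentral_center E)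
      (autGroup_hom_mem hPT hα) (⟨_, hqP⟩ : P)
      (hA ⟨hPT hqP, Subgroup.mul_mem _ (Subgroup.inv_mem _ hy) hβw⟩)
  have h1 := TrivialAction.map_eq_one_of_coprime (hS.to_le hW) (cenSup S P).subtype β hco
    (fun v hv => by
      rw [show v = 1 from Subtype.ext hv, map_one]; rfl)
    (x := w) (q := w⁻¹ * β w) (by
      show (β w : Ω) = (w : Ω) * ((w : Ω)⁻¹ * (β w : Ω))
      rw [mul_inv_cancel_left]) hqfix
  exact (inv_mul_eq_one.1 h1).symm

/-- Inside a normal subsystem on a subgroup commuting with `A` lies one centralizing `A`. -/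
theorem exists_centralizing [Fact p.Prime] [Finite S] (hS : IsPGroup p S)
    (hE : E.IsNormalIn F p) {A : Subgroup Ω} (hA : F.IsNormal A) (hAT : A ≤ T)
    (hcomm : ∀ a ∈ T, ∀ b ∈ A, a * b = b * a) :
    ∃ E' : FusionSystem T, E'.IsNormalIn F p ∧ A ≤ E'.center := by
  have hTS : T ≤ S := hE.1.2.2.2.1.1
  haveI : Finite T := finite_of_le hTS
  obtain ⟨C, hC⟩ := exists_centralizerSystem F hA.1
  have hCn := ComponentCentralizer.isNormalIn_centralizerSystem hS hE.1.2.1 hA hC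
  have e : T ⊓ centralizerIn S A = T := inf_eq_left.2 fun t ht =>
    ⟨hTS ht, Subgroup.mem_centralizer_iff.2 fun b hb => (hcomm t ht b hb).symm⟩
  have hw := Wedge.isWeaklyNormalIn_wedge hS hE hCn
  have hN := isNormalIn_pPrimeResidualSystem hS hw
  have key : ∀ W : Subgroup Ω, W = T → ∀ X : FusionSystem W, X.IsNormalIn F p →
      (∀ P, X.Hom P ⊆ F.centralizerHom A P) →
        ∃ E' : FusionSystem T, E'.IsNormalIn F p ∧ A ≤ E'.center := by
    rintro W rfl X hX hXc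
    refine ⟨X, hX, le_sSup ?_⟩
    refine isCentral_of_fixed (hS.to_le hTS) hX.1.1 hAT fun x hx y hy => ?_
    obtain ⟨φ, hφ, rfl⟩ := hy
    exact Centralizes.fixed hXc hφ _ hx
  exact key _ e _ hN fun P φ hφ =>
    (hC P).le (Wedge.wedgeSystem_le_right (F := F) (E₁ := E) (E₂ := C) (p := p) P hφ.1)

/-- The product of two normal subsystems on commuting subgroups. -/
theorem exists_product_of_commute [Fact p.Prime] [Finite S] (hS : IsPGroup p S)
    {E₁ : FusionSystem T₁} {E₂ : FusionSystem T₂} (h₁ : E₁.IsNormalIn F p)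
    (h₂ : E₂.IsNormalIn F p) (hcomm : ∀ a ∈ T₁, ∀ b ∈ T₂, a * b = b * a) :
    ∃ D : FusionSystem (T₁ ⊔ T₂), D.IsNormalIn F p ∧
      (T₁ ⊓ T₂ ≤ E₁.center → T₁ ⊓ T₂ ≤ E₂.center → IsCentralProductOf E₁ E₂ D) := by
  have h₁c := h₁.1.2.2.2.1
  have h₂c := h₂.1.2.2.2.1
  have product : ∀ (X₁ : FusionSystem T₁) (X₂ : FusionSystem T₂), X₁.IsNormalIn F p →
      X₂.IsNormalIn F p → T₁ ⊓ T₂ ≤ X₁.center → T₁ ⊓ T₂ ≤ X₂.center →
      ∃ D : FusionSystem (T₁ ⊔ T₂), D.IsNormalIn F p ∧ IsCentralProductOf X₁ X₂ D := by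
    intro X₁ X₂ hX₁ hX₂ hA₁ hA₂
    have hc₁ := centralizes_of_center hS hX₁ h₂c hcomm hA₁
    have hc₂ := centralizes_of_center hS hX₂ h₁c (fun a ha b hb => (hcomm b hb a ha).symm)
      (by rwa [inf_comm])
    obtain ⟨D, hcp⟩ := exists_centralProduct hS h₁c.1 h₂c.1 hX₁.1.1 hX₂.1.1 hc₁ hc₂
    exact ⟨D, isNormalIn_centralProduct hS hX₁ hX₂ hc₁ hc₂ hcp, hcp⟩
  by_cases hA : T₁ ⊓ T₂ ≤ E₁.center ∧ T₁ ⊓ T₂ ≤ E₂.center
  · obtain ⟨D, hD, hcp⟩ := product E₁ E₂ h₁ h₂ hA.1 hA.2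
    exact ⟨D, hD, fun _ _ => hcp⟩
  have hAc : F.StronglyClosed (T₁ ⊓ T₂) := ⟨inf_le_left.trans h₁c.1, fun R hR φ hφ x =>
    ⟨h₁c.2 R (hR.trans inf_le_left) φ hφ x, h₂c.2 R (hR.trans inf_le_right) φ hφ x⟩⟩
  have hAn : F.IsNormal (T₁ ⊓ T₂) := isNormal_of_isMulCommutative hS h₁.1.2.1 hAc
    ⟨⟨fun a b => Subtype.ext (hcomm _ a.2.1 _ b.2.2)⟩⟩
  obtain ⟨X₁, hX₁, hX₁A⟩ := exists_centralizing hS h₁ hAn inf_le_left
    fun a ha b hb => hcomm a ha b hb.2
  obtain ⟨X₂, hX₂, hX₂A⟩ := exists_centralizing hS h₂ hAn inf_le_right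
    fun a ha b hb => (hcomm b hb.1 a ha).symm
  obtain ⟨D, hD, -⟩ := product X₁ X₂ hX₁ hX₂ hX₁A hX₂A
  exact ⟨D, hD, fun a b => absurd ⟨a, b⟩ hA⟩

end Cfsg.Agent.Lib.Fusion.NormalProduct
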